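import Groth.Agent.PerfSchLib.Homeo
import Groth.Agent.AmpleLib.Extend
import Groth.Agent.AmpleFamLib.Descend
import Groth.Agent.AmpleEmb.GenFinite
import Groth.Agent.InvDescLib.FrobPull
import Groth.Agent.ParaFLib.Cocycle
import Groth.Agent.ParaFLib.Glue
import Groth.Agent.PicRootLib.Roots
import Groth.Agent.PicLib.Group
import Groth.Prelude.Def_Pic

/-!
# The Picard group of a perfection
-/

set_option autoImplicit false
set_option backward.isDefEq.respectTransparency false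
set_option linter.style.haveILetI false

universe u

open CategoryTheory AlgebraicGeometry TopologicalSpace Opposite
open Groth.Agent.ParaFLib Groth.Agent.PullbackMod Groth.Agent.DCohLib Groth.Agent.AmpleLib Groth.Agent.PicLib

noncomputable section

namespace Groth.Agent.PerfPicLib

variable {p : ℕ} [hp : Fact p.Prime] {X XP : Scheme.{u}} [FrobSch.IsCharP X p] [FrobSch.IsCharP XP p] {π : XP ⟶ X}

theorem cl_eq_cl {Y : Scheme.{u}} {L M : Y.Modules} : PicF.cl L = PicF.cl M ↔ Nonempty (L ≅ M) := by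
  refine ⟨fun e => ?_, fun e => Quot.sound e⟩
  have he : Equivalence fun L M : Y.Modules => Nonempty (L ≅ M) :=
    ⟨fun L => ⟨Iso.refl L⟩, fun ⟨e⟩ => ⟨e.symm⟩, fun ⟨e⟩ ⟨f⟩ => ⟨e ≪≫ f⟩⟩
  exact he.eqvGen_iff.1 (Quot.eqvGen_exact e)

/-- The `p`-th power is injective on the Picard group of a perfect scheme. -/
theorem pow_eq_one {Y : Scheme.{u}} [FrobSch.IsCharP Y p] (hY : FrobSch.IsPerfect Y p) :
    ∀ (n : ℕ) (a : Pic Y), a ^ p ^ n = 1 → a = 1
  | 0, a, ha => by rwa [pow_zero, pow_one] at ha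
  | n + 1, a, ha => by
    haveI : IsIso (FrobSch.frob Y p) := hY
    rw [pow_succ, pow_mul, ← InvDescLib.pull_frob] at ha
    refine pow_eq_one hY n a ?_
    have h1 := congrArg (pull (inv (FrobSch.frob Y p))) ha
    rwa [map_one, ← pull_comp, IsIso.inv_hom_id, pull_id] at h1

variable (h : FrobSch.IsPerfection π p) [CompactSpace X] [QuasiSeparatedSpace X]

include h

/-- Every section upstairs has a power with the same locus as a section from below. -/
theorem exists_section_pow {Q : X.Modules} (hQ : PicF.IsInvertible Q)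
    (σ : Coh.structureModule XP ⟶ (Scheme.Modules.pullback π).obj Q) :
    ∃ (n : ℕ) (T : Coh.structureModule X ⟶ CohB1.tensorPow Q (p ^ n)),
      π ⁻¹ᵁ CohB1.genLocus _ T = CohB1.genLocus _ σ := by
  classical
  have hcov : ∀ x : X, ∃ (O : X.Opens) (e : Γ(Q, O)), x ∈ O ∧ IsAffineOpen O ∧ Gen O e := fun x => by
    obtain ⟨W, e, hxW, he⟩ := exists_gen_nhd hQ x
    obtain ⟨O, hO, hxO, hOW⟩ := exists_isAffineOpen_mem_and_subset (X := X) (x := x) (U := W) hxW
    exact ⟨O, Q.presheaf.map (homOfLE hOW).op e, hxO, hO, he.res hOW⟩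
  choose O e hxO hO he using hcov
  obtain ⟨t, ht⟩ := isCompact_univ.elim_finite_subcover (fun x : X => (O x : Set X)) (fun x => (O x).2)
    (fun x _ => Set.mem_iUnion.2 ⟨x, hxO x⟩)
  let V : t → X.Opens := fun a => O a.1
  let g : ∀ a : t, Γ(Q, V a) := fun a => e a.1
  have hg : ∀ a, Gen (V a) (g a) := fun a => he a.1
  have hV : iSup V = ⊤ := top_le_iff.1 fun x _ => by
    obtain ⟨a, hat, hxa⟩ : ∃ a ∈ t, x ∈ O a := by simpa using ht (Set.mem_univ x)
    exact Opens.mem_iSup.2 ⟨⟨a, hat⟩, hxa⟩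
  let P := (Scheme.Modules.pullback π).obj Q
  have hG : ∀ a, Gen (π ⁻¹ᵁ V a) (pullMap π Q le_rfl (g a)) := fun a => AmpleEmb.gen_pullMap π hQ (hg a)
  have hcoef : ∀ a, ∃ c : Γ(XP, π ⁻¹ᵁ V a), c • pullMap π Q le_rfl (g a) = resT (sec σ) (π ⁻¹ᵁ V a) := fun a => by
    obtain ⟨c, hc⟩ := (hG a _ le_rfl).2 (resT (sec σ) (π ⁻¹ᵁ V a))
    simp only [ParaFLib.res_self] at hc
    exact ⟨c, hc⟩
  choose c hc using hcoef
  choose n a' ha' using fun a => (PerfSchLib.IsPerfection.affine_facts h (hO a.1)).2.1 (c a)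
  let N := Finset.univ.sup n
  let A : ∀ a : t, Γ(X, V a) := fun a => a' a ^ p ^ (N - n a)
  have hA : ∀ a, π.app (V a) (A a) = c a ^ p ^ N := fun a => by
    rw [map_pow, ha', ← pow_mul, ← pow_add, Nat.add_sub_cancel' (Finset.le_sup (Finset.mem_univ a))]
  clear_value A
  have hu : ∀ a b, ∃ u : Γ(X, V a ⊓ V b), IsUnit u ∧
      u • Q.presheaf.map (homOfLE (inf_le_right : V a ⊓ V b ≤ V b)).op (g b) =
        Q.presheaf.map (homOfLE (inf_le_left : V a ⊓ V b ≤ V a)).op (g a) := fun a b =>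
    ((hg a).res inf_le_left).exists_unit ((hg b).res inf_le_right)
  choose u hu hue using hu
  have hrel : ∀ a b, XP.presheaf.map (homOfLE (π.preimage_mono (inf_le_left : V a ⊓ V b ≤ V a))).op (c a) *
      π.app (V a ⊓ V b) (u a b) =
        XP.presheaf.map (homOfLE (π.preimage_mono (inf_le_right : V a ⊓ V b ≤ V b))).op (c b) := by
    intro a b
    refine ((hG b).res (π.preimage_mono inf_le_right) _ le_rfl).1 ?_
    simp only [ParaFLib.res_self, mul_smul]
    have e1 := congrArg (P.presheaf.map (homOfLE (π.preimage_mono (inf_le_left : V a ⊓ V b ≤ V a))).op) (hc a)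
    have e2 := congrArg (P.presheaf.map (homOfLE (π.preimage_mono (inf_le_right : V a ⊓ V b ≤ V b))).op) (hc b)
    rw [Scheme.Modules.map_smul, resT, ParaFLib.res_res,
      PullbackMod.pullMap_res π Q le_rfl inf_le_left (π.preimage_mono inf_le_left) le_rfl] at e1
    rw [Scheme.Modules.map_smul, resT, ParaFLib.res_res] at e2
    rw [PullbackMod.pullMap_res π Q le_rfl inf_le_right (π.preimage_mono inf_le_right) le_rfl,
      ← AmpleFamLib.pull_smul, hue]
    rw [PullbackMod.pullMap_res π Q le_rfl inf_le_right (π.preimage_mono inf_le_right) le_rfl] at e2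
    exact e1.trans e2.symm
  have hcompact : ∀ a b, IsCompact ((V a ⊓ V b : X.Opens) : Set X) := fun a b => by
    rw [Opens.coe_inf]
    exact QuasiSeparatedSpace.inter_isCompact _ _ (V a).2 (hO a.1).isCompact (V b).2 (hO b.1).isCompact
  have hnil : ∀ a b, IsNilpotent (X.presheaf.map (homOfLE (inf_le_left : V a ⊓ V b ≤ V a)).op (A a) * u a b ^ p ^ N -
      X.presheaf.map (homOfLE (inf_le_right : V a ⊓ V b ≤ V b)).op (A b)) := fun a b => by
    refine PerfSchLib.isNilpotent_of_app_eq_zero h (hcompact a b) ?_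
    rw [map_sub, map_mul, map_pow, AmpleFamLib.app_res π, AmpleFamLib.app_res π, hA, hA, map_pow, map_pow,
      ← mul_pow, hrel, sub_self]
  choose m hm using hnil
  let M := Finset.univ.sup fun ab : t × t => m ab.1 ab.2
  have heq : ∀ a b, X.presheaf.map (homOfLE (inf_le_left : V a ⊓ V b ≤ V a)).op (A a ^ p ^ M) * u a b ^ p ^ (N + M) =
      X.presheaf.map (homOfLE (inf_le_right : V a ⊓ V b ≤ V b)).op (A b ^ p ^ M) := fun a b => by
    rw [map_pow, map_pow, pow_add, pow_mul, ← mul_pow, ← sub_eq_zero,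
      ← PerfSchLib.sub_pow _ (PerfSchLib.natCast_eq_zero X _)]
    exact pow_eq_zero_of_le ((Finset.le_sup (f := fun ab : t × t => m ab.1 ab.2) (Finset.mem_univ (a, b))).trans
      (Nat.lt_pow_self hp.out.one_lt).le) (hm a b)
  let q := p ^ (N + M)
  let F : TopCat.Sheaf Ab.{u} X.carrier := ⟨(CohB1.tensorPow Q q).presheaf, (CohB1.tensorPow Q q).isSheaf⟩
  obtain ⟨τ, hτ, -⟩ := F.existsUnique_gluing' V ⊤ (fun a => homOfLE le_top) hV.ge
    (fun a => (A a ^ p ^ M) • powLoc (g a) q) (fun a b => by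
      show (CohB1.tensorPow Q q).presheaf.map (homOfLE (inf_le_left : V a ⊓ V b ≤ V a)).op _ =
        (CohB1.tensorPow Q q).presheaf.map (homOfLE (inf_le_right : V a ⊓ V b ≤ V b)).op _
      rw [Scheme.Modules.map_smul, Scheme.Modules.map_smul, powLoc_res, powLoc_res, ← hue a b, powLoc_smul,
        smul_smul, heq])
  refine ⟨N + M, secHom _ τ, ?_⟩
  have hloc : ∀ a, CohB1.genLocus _ (secHom (CohB1.tensorPow Q q) τ) ⊓ V a = X.basicOpen (A a ^ p ^ M) := fun a =>
    genLocus_inf_eq_basicOpen _ (gen_powLoc (hg a) q) (by rw [sec_secHom]; exact (hτ a).symm)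
  have hσ : ∀ a, CohB1.genLocus _ σ ⊓ π ⁻¹ᵁ V a = XP.basicOpen (c a) := fun a =>
    genLocus_inf_eq_basicOpen σ (hG a) (hc a)
  have key : ∀ a, π ⁻¹ᵁ X.basicOpen (A a ^ p ^ M) = XP.basicOpen (c a) := fun a => by
    rw [Scheme.preimage_basicOpen, map_pow, hA, ← pow_mul, ← pow_add, Scheme.basicOpen_pow _ _ (pow_pos hp.out.pos _)]
  ext z
  obtain ⟨a, ha⟩ := Opens.mem_iSup.1 (hV.ge (Opens.mem_top (π z)))
  have e1 : π ⁻¹ᵁ (CohB1.genLocus _ (secHom (CohB1.tensorPow Q q) τ) ⊓ V a) = CohB1.genLocus _ σ ⊓ π ⁻¹ᵁ V a := by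
    rw [hloc, key, hσ]
  exact ⟨fun hz => (e1.le ⟨hz, ha⟩).1, fun hz => (e1.ge ⟨hz, ha⟩).1⟩

theorem isTrivialCl_iff {L : X.Modules} (hL : PicF.IsInvertible L) :
    PicF.IsTrivialCl (PicF.pullCl π (PicF.cl L)) ↔
      ∃ n : ℕ, PicF.IsTrivialCl (PicF.cl (CohB1.tensorPow L (p ^ n))) := by
  show PicF.cl ((Scheme.Modules.pullback π).obj L) = PicF.cl (Coh.structureModule XP) ↔
    ∃ n : ℕ, PicF.cl (CohB1.tensorPow L (p ^ n)) = PicF.cl (Coh.structureModule X)
  simp only [cl_eq_cl]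
  constructor
  · rintro ⟨e⟩
    obtain ⟨n, T, hT⟩ := exists_section_pow h hL e.inv
    have htop : CohB1.genLocus _ e.inv = ⊤ := eq_top_iff.2 fun x _ =>
      (AmpleLib.mem_genLocus_iff').2 ⟨⊤, trivial, (AmpleLib.isIso_restrict_iff e.inv ⊤).1 inferInstance⟩
    haveI := PerfSchLib.surjective h
    have hT' : CohB1.genLocus _ T = ⊤ := PicRootLib.preimage_injective π (hT.trans htop)
    haveI := GenMorph.isIso_of_genLocus_eq_top (isInvertible_tensorPow hL (p ^ n)) hT'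
    exact ⟨n, ⟨(asIso T).symm⟩⟩
  · rintro ⟨n, hn⟩
    refine (cls_eq_one (isInvertible_pullback π hL)).1 ?_
    rw [← pull_cls π hL]
    refine pow_eq_one h.1 n _ ?_
    rw [← map_pow, ← cls_tensorPow hL, (cls_eq_one _).2 hn, map_one]

theorem exists_gen_preimage {M : XP.Modules} (hM : PicF.IsInvertible M) (x : X) :
    ∃ (O : X.Opens) (G : Γ(M, π ⁻¹ᵁ O)), x ∈ O ∧ IsAffineOpen O ∧ Gen (π ⁻¹ᵁ O) G := by
  obtain ⟨y, rfl⟩ := (PerfSchLib.surjective h).1 x
  obtain ⟨W, e, hyW, he⟩ := exists_gen_nhd hM y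
  let hh := PerfSchLib.isHomeomorph h
  obtain ⟨O, hO, hxO, hOW⟩ := exists_isAffineOpen_mem_and_subset (X := X) (x := π y)
    (U := ⟨π '' (W : Set XP), hh.isOpenMap _ W.2⟩) ⟨y, hyW, rfl⟩
  have hle : π ⁻¹ᵁ O ≤ W := fun z hz => by
    obtain ⟨w, hw, e⟩ := hOW hz
    rwa [← hh.injective e]
  exact ⟨O, M.presheaf.map (homOfLE hle).op e, hxO, hO, he.res hle⟩

theorem exists_tensorPow_eq {M : XP.Modules} (hM : PicF.IsInvertible M) :
    ∃ (n : ℕ) (L : X.Modules), PicF.IsInvertible L ∧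
      Nonempty (CohB1.tensorPow M (p ^ n) ≅ (Scheme.Modules.pullback π).obj L) := by
  classical
  choose O G' hxO hO hG' using exists_gen_preimage h hM
  obtain ⟨t, ht⟩ := isCompact_univ.elim_finite_subcover (fun x : X => (O x : Set X)) (fun x => (O x).2)
    (fun x _ => Set.mem_iUnion.2 ⟨x, hxO x⟩)
  let V : t → X.Opens := fun a => O a.1
  let G : ∀ a : t, Γ(M, π ⁻¹ᵁ V a) := fun a => G' a.1
  have hG : ∀ a, Gen (π ⁻¹ᵁ V a) (G a) := fun a => hG' a.1
  have hV : iSup V = ⊤ := top_le_iff.1 fun x _ => by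
    obtain ⟨a, hat, hxa⟩ : ∃ a ∈ t, x ∈ O a := by simpa using ht (Set.mem_univ x)
    exact Opens.mem_iSup.2 ⟨⟨a, hat⟩, hxa⟩
  have hcompact : ∀ {A B : X.Opens}, IsCompact (A : Set X) → IsCompact (B : Set X) →
      IsCompact ((A ⊓ B : X.Opens) : Set X) := fun {A B} hA hB => by
    rw [Opens.coe_inf]
    exact QuasiSeparatedSpace.inter_isCompact _ _ A.2 hA B.2 hB
  have hVc : ∀ a, IsCompact (V a : Set X) := fun a => (hO a.1).isCompact
  let l : ∀ a b, π ⁻¹ᵁ (V a ⊓ V b) ≤ π ⁻¹ᵁ V a := fun a b => π.preimage_mono inf_le_left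
  let r : ∀ a b, π ⁻¹ᵁ (V a ⊓ V b) ≤ π ⁻¹ᵁ V b := fun a b => π.preimage_mono inf_le_right
  have hc : ∀ a b, ∃ c : Γ(XP, π ⁻¹ᵁ (V a ⊓ V b)), IsUnit c ∧
      c • M.presheaf.map (homOfLE (r a b)).op (G b) = M.presheaf.map (homOfLE (l a b)).op (G a) := fun a b =>
    ((hG a).res (l a b)).exists_unit ((hG b).res (r a b))
  choose c hcu hce using hc
  choose n a' ha' using fun a b => PerfSchLib.exists_pow_eq h (hcompact (hVc a) (hVc b)) (c a b)
  let N := Finset.univ.sup fun ab : t × t => n ab.1 ab.2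
  let A : ∀ a b : t, Γ(X, V a ⊓ V b) := fun a b => a' a b ^ p ^ (N - n a b)
  have hA : ∀ a b, π.app (V a ⊓ V b) (A a b) = c a b ^ p ^ N := fun a b => by
    rw [map_pow, ha', ← pow_mul, ← pow_add,
      Nat.add_sub_cancel' (Finset.le_sup (f := fun ab : t × t => n ab.1 ab.2) (Finset.mem_univ (a, b)))]
  clear_value A
  haveI := PerfSchLib.surjective h
  have hAu : ∀ a b, IsUnit (A a b) := fun a b =>
    PicRootLib.isUnit_of_app π (by rw [hA]; exact (hcu a b).pow _)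
  have hnil : ∀ a b d, IsNilpotent
      (X.presheaf.map (homOfLE (inf_le_inf_right (V d) inf_le_left : V a ⊓ V b ⊓ V d ≤ V a ⊓ V d)).op (A a d) -
        X.presheaf.map (homOfLE (inf_le_left : V a ⊓ V b ⊓ V d ≤ V a ⊓ V b)).op (A a b) *
          X.presheaf.map (homOfLE (inf_le_inf_right (V d) inf_le_right : V a ⊓ V b ⊓ V d ≤ V b ⊓ V d)).op (A b d)) := by
    intro a b d
    refine PerfSchLib.isNilpotent_of_app_eq_zero h (hcompact (hcompact (hVc a) (hVc b)) (hVc d)) ?_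
    rw [map_sub, map_mul, AmpleFamLib.app_res π, AmpleFamLib.app_res π, AmpleFamLib.app_res π, hA, hA, hA,
      map_pow, map_pow, map_pow, ← mul_pow, sub_eq_zero]
    refine congrArg (· ^ p ^ N) ?_
    have hd : π ⁻¹ᵁ (V a ⊓ V b ⊓ V d) ≤ π ⁻¹ᵁ V d := π.preimage_mono inf_le_right
    refine ((hG d).res hd _ le_rfl).1 ?_
    simp only [ParaFLib.res_self, mul_smul]
    have e1 := congrArg (M.presheaf.map
      (homOfLE (π.preimage_mono (inf_le_inf_right (V d) inf_le_left : V a ⊓ V b ⊓ V d ≤ V a ⊓ V d))).op) (hce a d)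
    have e2 := congrArg (M.presheaf.map
      (homOfLE (π.preimage_mono (inf_le_left : V a ⊓ V b ⊓ V d ≤ V a ⊓ V b))).op) (hce a b)
    have e3 := congrArg (M.presheaf.map
      (homOfLE (π.preimage_mono (inf_le_inf_right (V d) inf_le_right : V a ⊓ V b ⊓ V d ≤ V b ⊓ V d))).op) (hce b d)
    rw [Scheme.Modules.map_smul, ParaFLib.res_res, ParaFLib.res_res] at e1 e2 e3
    exact e1.trans (e2.symm.trans (congrArg _ e3.symm))
  choose m hm using hnil
  let K := Finset.univ.sup fun abd : t × t × t => m abd.1 abd.2.1 abd.2.2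
  let η : ∀ a b : t, (Γ(X, V a ⊓ V b))ˣ := fun a b => ((hAu a b).pow (p ^ K)).unit
  have hηv : ∀ a b, (η a b : Γ(X, V a ⊓ V b)) = A a b ^ p ^ K := fun a b => rfl
  have hcoc : ParaFLib.IsCocycle V η := fun a b d => by
    rw [hηv, hηv, hηv, map_pow, map_pow, map_pow, ← mul_pow, ← sub_eq_zero,
      ← PerfSchLib.sub_pow _ (PerfSchLib.natCast_eq_zero X _)]
    exact pow_eq_zero_of_le ((Finset.le_sup (f := fun abd : t × t × t => m abd.1 abd.2.1 abd.2.2)
      (Finset.mem_univ (a, b, d))).trans (Nat.lt_pow_self hp.out.one_lt).le) (hm a b d)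
  obtain ⟨L, s, hL, hs, hsη⟩ := exists_invertible_of_cocycle V η hV hcoc
  refine ⟨N + K, L, hL, ?_⟩
  have hcov : iSup (fun a => π ⁻¹ᵁ V a) = ⊤ := top_le_iff.1 fun z _ => by
    obtain ⟨a, ha⟩ := Opens.mem_iSup.1 (hV.ge (Opens.mem_top (π z)))
    exact Opens.mem_iSup.2 ⟨a, ha⟩
  have hη' : ∀ a b, π.app (V a ⊓ V b) (η a b : Γ(X, V a ⊓ V b)) = c a b ^ p ^ (N + K) := fun a b => by
    rw [hηv, map_pow, hA, ← pow_mul, ← pow_add]
  refine nonempty_iso_of_bases hcov (s := fun a => powLoc (G a) (p ^ (N + K)))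
    (t := fun a => pullMap π L le_rfl (s a))
    (fun a => gen_powLoc (hG a) _) (fun a => AmpleEmb.gen_pullMap π hL (hs a))
    (fun a b => π.app (V a ⊓ V b) (η a b : Γ(X, V a ⊓ V b))) (fun a b => ?_) (fun a b => ?_)
  · show (CohB1.tensorPow M (p ^ (N + K))).presheaf.map (homOfLE (l a b)).op (powLoc (G a) (p ^ (N + K))) =
      ((π.app (V a ⊓ V b) (η a b : Γ(X, V a ⊓ V b)) : Γ(XP, π ⁻¹ᵁ (V a ⊓ V b))) •
        ((CohB1.tensorPow M (p ^ (N + K))).presheaf.map (homOfLE (r a b)).op (powLoc (G b) (p ^ (N + K))) :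
          Γ(CohB1.tensorPow M (p ^ (N + K)), π ⁻¹ᵁ (V a ⊓ V b))))
    rw [powLoc_res, powLoc_res, ← hce a b, powLoc_smul, hη']
  · have h1 := PullbackMod.pullMap_res π L (le_rfl : π ⁻¹ᵁ V a ≤ _) (inf_le_left : V a ⊓ V b ≤ V a) (l a b) le_rfl (s a)
    have h2 := PullbackMod.pullMap_res π L (le_rfl : π ⁻¹ᵁ V b ≤ _) (inf_le_right : V a ⊓ V b ≤ V b) (r a b) le_rfl (s b)
    refine h1.trans ?_
    rw [hsη a b, AmpleFamLib.pull_smul]
    exact congrArg _ h2.symm

end Groth.Agent.PerfPicLib
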